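import Cfsg.Agent.EqLemmas

/-!
Abstract binary Golay codes: a 12-dimensional self-orthogonal `C ≤ (Fin 24 → ZMod 2)` with minimum weight at least 8.
Main results: `exists_small_rep` (covering radius 4), `steiner` (octads form S(5,8,24)), `four_dvd`, `mem_span_octads`,
`card_four_class` (a coset of minimal weight 4 holds exactly six words of weight 4).
-/

set_option autoImplicit false

namespace Cfsg.Agent.AbstractGolay

open Finset

/-- A word. -/
abbrev Word : Type := Fin 24 → ZMod 2

/-- The support of a word. -/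
def sp (v : Word) : Finset (Fin 24) := univ.filter fun i => v i ≠ 0

/-- The indicator word of a set. -/
def ind (S : Finset (Fin 24)) : Word := fun i => if i ∈ S then 1 else 0

theorem zmod_two_ne_zero_iff (a : ZMod 2) : a ≠ 0 ↔ a = 1 := by
  revert a; decide

@[simp] theorem sp_ind (S : Finset (Fin 24)) : sp (ind S) = S := by
  ext i
  simp [sp, ind]

theorem norm_eq (v : Word) : hammingNorm v = (sp v).card := rfl

theorem mem_sp (v : Word) (i : Fin 24) : i ∈ sp v ↔ v i ≠ 0 := by simp [sp]

theorem sp_inj {u v : Word} (h : sp u = sp v) : u = v := by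
  funext i
  have := Finset.ext_iff.mp h i
  simp only [mem_sp] at this
  revert this
  generalize u i = a
  generalize v i = b
  revert a b
  decide

theorem sp_add (u v : Word) : sp (u + v) = (sp u \ sp v) ∪ (sp v \ sp u) := by
  ext i
  simp only [mem_sp, mem_union, mem_sdiff, Pi.add_apply]
  generalize u i = a
  generalize v i = b
  revert a b
  decide

theorem card_add (u v : Word) :
    (sp (u + v)).card + 2 * (sp u ∩ sp v).card = (sp u).card + (sp v).card := by
  rw [sp_add, card_union_of_disjoint (disjoint_sdiff_sdiff)]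
  have h1 := card_sdiff_add_card_inter (sp u) (sp v)
  have h2 := card_sdiff_add_card_inter (sp v) (sp u)
  rw [inter_comm (sp v) (sp u)] at h2
  omega

theorem sum_mul (u v : Word) : ∑ i, u i * v i = ((sp u ∩ sp v).card : ZMod 2) := by
  have : ∀ i, u i * v i = if i ∈ sp u ∩ sp v then (1 : ZMod 2) else 0 := by
    intro i
    simp only [mem_inter, mem_sp]
    generalize u i = a
    generalize v i = b
    revert a b
    decide
  rw [Finset.sum_congr rfl fun i _ => this i, Finset.sum_ite_mem, univ_inter, sum_const, nsmul_one]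

theorem sub_eq_add (u v : Word) : u - v = u + v := by
  funext i
  simp only [Pi.sub_apply, Pi.add_apply]
  generalize u i = a
  generalize v i = b
  revert a b
  decide

theorem add_self (u : Word) : u + u = 0 := by rw [← sub_eq_add, sub_self]

/-- The hypotheses on the code. -/
structure IsGolay (C : Submodule (ZMod 2) Word) : Prop where
  dim : Module.finrank (ZMod 2) C = 12
  orth : ∀ v ∈ C, ∀ w ∈ C, ∑ i, v i * w i = 0
  minWt : ∀ w ∈ C, w ≠ 0 → 8 ≤ hammingNorm w

variable {C : Submodule (ZMod 2) Word}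

theorem IsGolay.eq_zero_of_card_le (hC : IsGolay C) {w : Word} (hw : w ∈ C) (h : (sp w).card ≤ 7) : w = 0 := by
  by_contra hne
  have := hC.minWt w hw hne
  rw [norm_eq] at this
  omega

theorem IsGolay.eq_of_card (hC : IsGolay C) {u v : Word} (h : u + v ∈ C)
    (hc : (sp (u + v)).card ≤ 7) : u = v := by
  have := hC.eq_zero_of_card_le h hc
  rwa [← sub_eq_add, sub_eq_zero] at this

theorem IsGolay.even_inter (hC : IsGolay C) {u v : Word} (hu : u ∈ C) (hv : v ∈ C) :
    Even (sp u ∩ sp v).card := by
  have h := hC.orth u hu v hv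
  rw [sum_mul] at h
  exact ((ZMod.natCast_eq_zero_iff_even).mp h)

theorem IsGolay.even_card (hC : IsGolay C) {u : Word} (hu : u ∈ C) : Even (sp u).card := by
  simpa using hC.even_inter hu hu

/-- The small words off the point 0. -/
def smallSets : Finset (Finset (Fin 24)) :=
  (Finset.range 4).biUnion fun k => ((univ : Finset (Fin 24)).erase 0).powersetCard k

theorem mem_smallSets (S : Finset (Fin 24)) : S ∈ smallSets ↔ (0 : Fin 24) ∉ S ∧ S.card ≤ 3 := by
  simp only [smallSets, mem_biUnion, mem_range, mem_powersetCard, subset_erase, subset_univ, true_and]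
  constructor
  · rintro ⟨k, hk, h0, rfl⟩
    exact ⟨h0, by omega⟩
  · rintro ⟨h0, hc⟩
    exact ⟨S.card, by omega, h0, rfl⟩

theorem card_smallSets : smallSets.card = 2048 := by
  rw [smallSets, card_biUnion]
  · simp [card_powersetCard, Finset.sum_range_succ, Nat.choose]
  · intro a _ b _ hab
    simp only [Function.onFun, disjoint_left, mem_powersetCard]
    rintro S ⟨_, h1⟩ ⟨_, h2⟩
    exact hab (h1.symm.trans h2)

theorem IsGolay.exists_small_rep (hC : IsGolay C) (w : Word) :
    ∃ u : Word, u + w ∈ C ∧ (sp u).card ≤ 4 := by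
  classical
  let e : Word := ind {0}
  let D : Submodule (ZMod 2) Word := C ⊔ Submodule.span (ZMod 2) {e}
  have he : e ∉ C := by
    intro h
    have h0 := hC.eq_zero_of_card_le h (by simp [e])
    have := congrFun h0 0
    simp [e, ind] at this
  have hD : Module.finrank (ZMod 2) D = 13 := by
    have h1 := Submodule.finrank_sup_add_finrank_inf_eq C (Submodule.span (ZMod 2) {e})
    have he0 : e ≠ 0 := fun h => he (h ▸ C.zero_mem)
    have hinf : C ⊓ Submodule.span (ZMod 2) {e} = ⊥ := by
      rw [Submodule.eq_bot_iff]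
      rintro x ⟨hx, hx'⟩
      obtain ⟨a, rfl⟩ := Submodule.mem_span_singleton.mp hx'
      by_contra hne
      have ha : a = 1 := (zmod_two_ne_zero_iff a).mp fun h => hne (by simp [h])
      exact he (by simpa [ha] using hx)
    rw [hinf, finrank_bot, hC.dim, finrank_span_singleton he0] at h1
    simpa [D] using h1
  have hQ : Nat.card (Word ⧸ D) = 2048 := by
    rw [Module.natCard_eq_pow_finrank (K := ZMod 2)]
    have h1 := D.finrank_quotient_add_finrank
    rw [hD, Module.finrank_pi, Fintype.card_fin] at h1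
    have : Module.finrank (ZMod 2) (Word ⧸ D) = 11 := by omega
    rw [this, Nat.card_zmod]
    norm_num
  let f : smallSets → Word ⧸ D := fun S => Submodule.Quotient.mk (ind (S : Finset (Fin 24)))
  have hfin : Finite (Word ⧸ D) := Quotient.finite _
  have hbij : Function.Bijective f := by
    rw [Nat.bijective_iff_injective_and_card]
    refine ⟨?_, by rw [hQ, Nat.card_eq_fintype_card, Fintype.card_coe, card_smallSets]⟩
    rintro ⟨S, hS⟩ ⟨T, hT⟩ h
    rw [mem_smallSets] at hS hT
    have h' := (Submodule.Quotient.eq D).mp h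
    simp only [sub_eq_add] at h'
    obtain ⟨c, hc, x, hx, hcx⟩ := Submodule.mem_sup.mp h'
    obtain ⟨a, rfl⟩ := Submodule.mem_span_singleton.mp hx
    have hcard := card_add (ind S) (ind T)
    simp only [sp_ind] at hcard
    have hceq : c = (ind S + ind T) + a • e := by
      rw [← hcx, add_assoc, add_self, add_zero]
    have hc7 : (sp c).card ≤ 7 := by
      rw [hceq]
      have hcard' := card_add (ind S + ind T) (a • e)
      have : (sp (a • e)).card ≤ 1 := by
        rcases eq_or_ne a 0 with rfl | ha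
        · simp [sp]
        · simp [(zmod_two_ne_zero_iff a).mp ha, e]
      omega
    have hc0 := hC.eq_zero_of_card_le hc hc7
    have hsum : ind S + ind T = a • e := by
      rw [hc0, zero_add] at hcx
      exact hcx.symm
    have ha : a = 0 := by
      have := congrFun hsum 0
      simpa [ind, e, hS.1, hT.1, eq_comm] using this
    rw [ha, zero_smul, ← sub_eq_add, sub_eq_zero] at hsum
    have := congrArg sp hsum
    simp only [sp_ind] at this
    exact Subtype.ext this
  obtain ⟨⟨S, hS⟩, hSw⟩ := hbij.2 (Submodule.Quotient.mk w)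
  rw [mem_smallSets] at hS
  have h' := (Submodule.Quotient.eq D).mp hSw
  simp only [sub_eq_add] at h'
  obtain ⟨c, hc, x, hx, hcx⟩ := Submodule.mem_sup.mp h'
  obtain ⟨a, rfl⟩ := Submodule.mem_span_singleton.mp hx
  refine ⟨ind S + a • e, ?_, ?_⟩
  · have : ind S + a • e + w = c := by
      rw [add_right_comm, ← hcx, add_assoc, add_self, add_zero]
    rwa [this]
  · have hcard := card_add (ind S) (a • e)
    simp only [sp_ind] at hcard
    have : (sp (a • e)).card ≤ 1 := by
      rcases eq_or_ne a 0 with rfl | ha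
      · simp [sp]
      · simp [(zmod_two_ne_zero_iff a).mp ha, e]
    omega

theorem IsGolay.exists_octad (hC : IsGolay C) {S : Finset (Fin 24)} (hS : S.card = 5) :
    ∃ c ∈ C, (sp c).card = 8 ∧ S ⊆ sp c := by
  obtain ⟨u, hu, hu4⟩ := hC.exists_small_rep (ind S)
  have hcard := card_add u (ind S)
  rw [sp_ind, hS] at hcard
  have heven := hC.even_card hu
  have hne : u + ind S ≠ 0 := by
    intro h
    rw [← sub_eq_add, sub_eq_zero] at h
    rw [h, sp_ind, hS] at hu4
    omega
  have h8 := hC.minWt _ hu hne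
  rw [norm_eq] at h8
  have hk : (sp u ∩ S).card = 0 ∧ (sp (u + ind S)).card = 8 := by
    obtain ⟨m, hm⟩ := heven
    have := card_le_card (inter_subset_left : sp u ∩ S ⊆ sp u)
    omega
  refine ⟨_, hu, hk.2, ?_⟩
  rw [sp_add, sp_ind]
  intro i hi
  refine mem_union_right _ (mem_sdiff.mpr ⟨hi, fun h => ?_⟩)
  have : i ∈ sp u ∩ S := mem_inter.mpr ⟨h, hi⟩
  rw [card_eq_zero.mp hk.1] at this
  simp at this

theorem IsGolay.octad_unique (hC : IsGolay C) {c d : Word} (hc : c ∈ C) (hd : d ∈ C) (hc8 : (sp c).card = 8)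
    (hd8 : (sp d).card = 8) {S : Finset (Fin 24)} (hS : S.card = 5) (hSc : S ⊆ sp c) (hSd : S ⊆ sp d) : c = d := by
  refine hC.eq_of_card (C.add_mem hc hd) ?_
  have := card_add c d
  have := card_le_card (subset_inter hSc hSd)
  omega

theorem IsGolay.steiner (hC : IsGolay C) :
    Cfsg.IsSteinerSystem 5 8 (Cfsg.wordsOfWeight (C : Set Word) 8) := by
  refine ⟨fun b hb => hb.2, fun S hS => ?_⟩
  obtain ⟨c, hc, hc8, hSc⟩ := hC.exists_octad hS
  refine ⟨sp c, ⟨⟨⟨c, hc, rfl⟩, hc8⟩, hSc⟩, ?_⟩
  rintro b ⟨⟨⟨d, hd, rfl⟩, hd8⟩, hSd⟩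
  exact congrArg sp (hC.octad_unique hd hc hd8 hc8 hS hSd hSc)

theorem IsGolay.descent (hC : IsGolay C) (n : ℕ) : ∀ c ∈ C, (sp c).card = n →
    4 ∣ n ∧ c ∈ Submodule.span (ZMod 2) {w : Word | w ∈ C ∧ hammingNorm w = 8} := by
  induction n using Nat.strong_induction_on with
  | _ n ih =>
    intro c hc hn
    rcases eq_or_ne c 0 with rfl | hne
    · subst hn
      exact ⟨by simp [sp], Submodule.zero_mem _⟩
    have h8 := hC.minWt c hc hne
    rw [norm_eq, hn] at h8
    obtain ⟨S, hSc, hS⟩ := exists_subset_card_eq (s := sp c) (n := 5) (by omega)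
    obtain ⟨o, ho, ho8, hSo⟩ := hC.exists_octad hS
    have hcard := card_add c o
    have h5 := card_le_card (subset_inter hSc hSo)
    obtain ⟨m, hm⟩ := hC.even_inter hc ho
    obtain ⟨h4, hsp⟩ := ih _ (by omega) (c + o) (C.add_mem hc ho) rfl
    refine ⟨by omega, ?_⟩
    have : c = (c + o) + o := by rw [add_assoc, add_self, add_zero]
    rw [this]
    exact Submodule.add_mem _ hsp (Submodule.subset_span ⟨ho, by rw [norm_eq]; exact ho8⟩)

theorem IsGolay.four_dvd (hC : IsGolay C) {c : Word} (hc : c ∈ C) : 4 ∣ hammingNorm c :=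
  (hC.descent _ c hc rfl).1

theorem IsGolay.span_octads (hC : IsGolay C) :
    Submodule.span (ZMod 2) {w : Word | w ∈ C ∧ hammingNorm w = 8} = C :=
  le_antisymm (Submodule.span_le.mpr fun _ h => h.1) fun c hc => (hC.descent _ c hc rfl).2

theorem add_mem_of_add_mem {u v w : Word} (hu : u + w ∈ C) (hv : v + w ∈ C) : u + v ∈ C := by
  have h : u + v = (u + w) + (v + w) := by
    rw [add_add_add_comm, add_self, add_zero]
  rw [h]
  exact C.add_mem hu hv

theorem IsGolay.disjoint_of_four (hC : IsGolay C) {u v w : Word} (hu : u + w ∈ C) (hv : v + w ∈ C)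
    (hu4 : (sp u).card = 4) (hv4 : (sp v).card = 4) (hne : u ≠ v) : Disjoint (sp u) (sp v) := by
  rw [disjoint_iff_inter_eq_empty, ← card_eq_zero]
  by_contra h
  refine hne (hC.eq_of_card (add_mem_of_add_mem hu hv) ?_)
  have := card_add u v
  omega

/-- The words of weight four congruent to `w`. -/
noncomputable def fourClass (C : Submodule (ZMod 2) Word) (w : Word) : Finset Word := by
  classical exact univ.filter fun u => u + w ∈ C ∧ (sp u).card = 4

theorem mem_fourClass {w u : Word} : u ∈ fourClass C w ↔ u + w ∈ C ∧ (sp u).card = 4 := by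
  simp [fourClass]

theorem IsGolay.card_four_class (hC : IsGolay C) {w u : Word} (hu : u + w ∈ C) (hu4 : (sp u).card = 4) :
    (fourClass C w).card = 6 := by
  have hdisj : (fourClass C w : Set Word).PairwiseDisjoint sp := by
    intro a ha b hb hab
    rw [mem_coe, mem_fourClass] at ha hb
    exact hC.disjoint_of_four ha.1 hb.1 ha.2 hb.2 hab
  have hun : (fourClass C w).biUnion sp = univ := by
    rw [eq_univ_iff_forall]
    intro i
    rw [mem_biUnion]
    by_cases hi : i ∈ sp u
    · exact ⟨u, mem_fourClass.mpr ⟨hu, hu4⟩, hi⟩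
    obtain ⟨o, ho, ho8, hSo⟩ := hC.exists_octad (S := insert i (sp u)) (by rw [card_insert_of_notMem hi, hu4])
    have hsub : sp u ⊆ sp o := (subset_insert _ _).trans hSo
    refine ⟨u + o, mem_fourClass.mpr ⟨?_, ?_⟩, ?_⟩
    · rw [add_right_comm]
      exact C.add_mem hu ho
    · have := card_add u o
      rw [inter_eq_left.mpr hsub] at this
      omega
    · rw [sp_add]
      exact mem_union_right _ (mem_sdiff.mpr ⟨hSo (mem_insert_self _ _), hi⟩)
  have h := card_biUnion hdisj
  rw [hun, card_univ, Fintype.card_fin] at h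
  have h4 : ∑ x ∈ fourClass C w, (sp x).card = (fourClass C w).card * 4 := by
    rw [sum_const_nat]
    exact fun x hx => (mem_fourClass.mp hx).2
  omega

theorem IsGolay.coset_classify (hC : IsGolay C) (w : Word) :
    (∃ u : Word, {u : Word | u - w ∈ C ∧ hammingNorm u ≤ 4} = {u} ∧ hammingNorm u ≤ 3) ∨
    ({u : Word | u - w ∈ C ∧ hammingNorm u ≤ 4}.ncard = 6 ∧
      ∀ u ∈ {u : Word | u - w ∈ C ∧ hammingNorm u ≤ 4}, hammingNorm u = 4 ∧
        ∀ u' ∈ {u : Word | u - w ∈ C ∧ hammingNorm u ≤ 4}, u ≠ u' → Disjoint (sp u) (sp u')) := by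
  obtain ⟨u, hu, hu4⟩ := hC.exists_small_rep w
  simp only [sub_eq_add, norm_eq]
  rcases Nat.lt_or_ge (sp u).card 4 with h3 | h4
  · left
    refine ⟨u, ?_, by omega⟩
    ext v
    simp only [Set.mem_setOf_eq, Set.mem_singleton_iff]
    refine ⟨fun ⟨hv, hv4⟩ => (hC.eq_of_card (add_mem_of_add_mem hu hv) ?_).symm, fun h => h ▸ ⟨hu, hu4⟩⟩
    have := card_add u v
    omega
  · right
    have hu4' : (sp u).card = 4 := by omega
    have hall : ∀ v : Word, v + w ∈ C → (sp v).card ≤ 4 → (sp v).card = 4 := by
      intro v hv hv4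
      by_contra hne
      have hvu : v = u := hC.eq_of_card (add_mem_of_add_mem hv hu) (by have := card_add v u; omega)
      rw [hvu] at hne
      exact hne hu4'
    have hset : {v : Word | v + w ∈ C ∧ (sp v).card ≤ 4} = ↑(fourClass C w) := by
      ext v
      simp only [Set.mem_setOf_eq, mem_coe, mem_fourClass]
      exact ⟨fun h => ⟨h.1, hall v h.1 h.2⟩, fun h => ⟨h.1, h.2.le⟩⟩
    refine ⟨by rw [hset, Set.ncard_coe_finset, hC.card_four_class hu hu4'], ?_⟩
    rintro a ⟨ha, ha4⟩
    refine ⟨hall a ha ha4, ?_⟩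
    rintro b ⟨hb, hb4⟩ hab
    exact hC.disjoint_of_four ha hb (hall a ha ha4) (hall b hb hb4) hab

end Cfsg.Agent.AbstractGolay
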